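import Groth.Agent.HopfFF.Galois
import Groth.Prelude.Def_GLin
import Mathlib.RingTheory.TensorProduct.Free
import Mathlib.LinearAlgebra.Charpoly.ToMatrix
import Mathlib.LinearAlgebra.Matrix.ToLin
import Mathlib.RingTheory.Adjoin.Tower
import Mathlib.RingTheory.IntegralClosure.IsIntegralClosure.Basic

/-!
# Invariants of a finite group scheme acting on an algebra: the coefficients of the characteristic polynomial
-/

set_option autoImplicit false
universe u v w

open TensorProduct WithConv Polynomial

namespace Groth.Agent.FinInv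

variable {k : Type u} [Field k] {A : Type v} [CommRing A] [HopfAlgebra k A]

section Matrix

variable {R : Type w} [CommRing R] [Algebra k R] {ι : Type*} [Fintype ι] [DecidableEq ι]
  (b : Module.Basis ι k A)

/-- the matrix of multiplication on `R ⊗ A` over `R` -/
noncomputable def mat (x : R ⊗[k] A) : Matrix ι ι R :=
  Algebra.leftMulMatrix (Algebra.TensorProduct.basis R b) x

theorem mat_map {R' : Type*} [CommRing R'] [Algebra k R'] (g : R →ₐ[k] R') (x : R ⊗[k] A) :
    (mat b x).map g = mat b (Algebra.TensorProduct.map g (AlgHom.id k A) x) := by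
  ext i j
  simp only [mat, Matrix.map_apply, Algebra.leftMulMatrix_eq_repr_mul, Algebra.TensorProduct.basis_apply]
  induction x with
  | zero => simp
  | tmul r a => simp [Algebra.TensorProduct.basis_repr_tmul]
  | add y z hy hz => simp only [map_add, add_mul, Finsupp.add_apply, hy, hz]

theorem inv'_mul_cancel_left {T : Type*} [CommRing T] [Algebra k T] (x z : WithConv (A →ₐ[k] T)) :
    HopfFF.inv' x * (x * z) = z := by
  rw [← mul_assoc, HopfFF.inv'_mul, one_mul]

theorem mul_inv'_cancel_left {T : Type*} [CommRing T] [Algebra k T] (x z : WithConv (A →ₐ[k] T)) :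
    x * (HopfFF.inv' x * z) = z := by
  rw [← mul_assoc, HopfFF.mul_inv', one_mul]

/-- the shear automorphism of `(R ⊗ A) ⊗ A` over `R ⊗ A` -/
theorem exists_shear : ∃ Θ : (R ⊗[k] A) ⊗[k] A ≃ₐ[R ⊗[k] A] (R ⊗[k] A) ⊗[k] A,
    ∀ (r : R) (a : A), Θ ((r ⊗ₜ[k] 1) ⊗ₜ[k] a) =
      (TensorProduct.assoc k R A A).symm (r ⊗ₜ[k] Coalgebra.comul (R := k) a) := by
  let J₁ : WithConv (A →ₐ[k] ((R ⊗[k] A) ⊗[k] A)) := toConv
    ((Algebra.TensorProduct.includeLeft : R ⊗[k] A →ₐ[k] ((R ⊗[k] A) ⊗[k] A)).comp Algebra.TensorProduct.includeRight)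
  let J₂ : WithConv (A →ₐ[k] ((R ⊗[k] A) ⊗[k] A)) := toConv (Algebra.TensorProduct.includeRight : A →ₐ[k] ((R ⊗[k] A) ⊗[k] A))
  let L : (x : WithConv (A →ₐ[k] ((R ⊗[k] A) ⊗[k] A))) → ((R ⊗[k] A) ⊗[k] A) →ₐ[R ⊗[k] A] ((R ⊗[k] A) ⊗[k] A) := fun x =>
    Algebra.TensorProduct.lift (Algebra.ofId _ ((R ⊗[k] A) ⊗[k] A)) x.ofConv fun _ _ => Commute.all _ _
  have hJ₂ : ∀ x, FinHopf.postComp (C := A) ((L x).restrictScalars k) J₂ = x := by
    intro x
    apply WithConv.ofConv_injective
    ext a
    show L x (1 ⊗ₜ a) = x.ofConv a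
    simp [L, ← Algebra.TensorProduct.one_def]
  have hJ₁ : ∀ x, FinHopf.postComp (C := A) ((L x).restrictScalars k) J₁ = J₁ := by
    intro x
    apply WithConv.ofConv_injective
    ext a
    show L x ((1 ⊗ₜ[k] a) ⊗ₜ 1) = (1 ⊗ₜ[k] a) ⊗ₜ[k] 1
    simp [L, Algebra.ofId_apply, Algebra.TensorProduct.algebraMap_apply]
  have hJ₁' : ∀ x, FinHopf.postComp (C := A) ((L x).restrictScalars k) (HopfFF.inv' J₁) = HopfFF.inv' J₁ := by
    intro x
    apply WithConv.ofConv_injective
    ext a
    exact DFunLike.congr_fun (congrArg WithConv.ofConv (hJ₁ x)) _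
  have hcomp : ∀ x y, (L x).comp (L y) = L (FinHopf.postComp (C := A) ((L x).restrictScalars k) y) := by
    intro x y
    refine Algebra.TensorProduct.ext (AlgHom.ext fun c => ?_) (AlgHom.ext fun a => ?_)
    · exact ((L x).comp (L y)).commutes c |>.trans (AlgHom.commutes _ c).symm
    · simp [L, ← Algebra.TensorProduct.one_def]
  have hid : L J₂ = AlgHom.id _ ((R ⊗[k] A) ⊗[k] A) := by
    refine Algebra.TensorProduct.ext (AlgHom.ext fun c => ?_) (AlgHom.ext fun a => ?_)
    · exact AlgHom.commutes _ c
    · simp [L, J₂, Algebra.TensorProduct.includeRight_apply]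
  refine ⟨AlgEquiv.ofAlgHom (L (J₁ * J₂)) (L (HopfFF.inv' J₁ * J₂)) ?_ ?_, fun r a => ?_⟩
  · rw [hcomp, map_mul, hJ₁', hJ₂]
    exact (congrArg L (inv'_mul_cancel_left J₁ J₂)).trans hid
  · rw [hcomp, map_mul, hJ₁, hJ₂]
    exact (congrArg L (mul_inv'_cancel_left J₁ J₂)).trans hid
  · show Algebra.ofId (R ⊗[k] A) ((R ⊗[k] A) ⊗[k] A) (r ⊗ₜ[k] 1) * (J₁ * J₂).ofConv a = _
    rw [AlgHom.convMul_apply]
    generalize Coalgebra.comul (R := k) a = z
    induction z with
    | zero => simp
    | tmul p q => simp [J₁, J₂, Algebra.ofId_apply, Algebra.TensorProduct.algebraMap_apply, Algebra.TensorProduct.includeRight_apply]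
    | add y z hy hz => simp only [map_add, mul_add, tmul_add, hy, hz]

end Matrix

theorem isIntegral_invariants [Module.Finite k A] (R : Type w) [CommRing R] [Algebra k R]
    [HopfRep.Comod k A R] [GLin.IsCoactAlg k A R] :
    Algebra.IsIntegral ↥(GLin.invariants k A R) R := by
  classical
  refine ⟨fun r => ?_⟩
  let b := Module.finBasis k A
  let ρ := GLin.coactAlgHom k A R
  let P := (mat b (ρ r)).charpoly
  have hmap : P.map (ρ : R →+* R ⊗[k] A) = P.map (algebraMap R (R ⊗[k] A)) := by
    obtain ⟨Θ, hΘ⟩ := exists_shear (k := k) (A := A) (R := R)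
    rw [← Matrix.charpoly_map, ← Matrix.charpoly_map]
    have e1 := mat_map b ρ (ρ r)
    have e2 := mat_map b (Algebra.TensorProduct.includeLeft : R →ₐ[k] R ⊗[k] A) (ρ r)
    refine (congrArg Matrix.charpoly e1).trans (Eq.trans ?_ (congrArg Matrix.charpoly e2).symm)
    have hx : Algebra.TensorProduct.map ρ (AlgHom.id k A) (ρ r) =
        Θ (Algebra.TensorProduct.map (Algebra.TensorProduct.includeLeft : R →ₐ[k] R ⊗[k] A) (AlgHom.id k A) (ρ r)) := by
      have hco := LinearMap.congr_fun (HopfRep.Comod.coassoc (k := k) (A := A) (V := R)) r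
      simp only [LinearMap.comp_apply, LinearEquiv.coe_coe] at hco
      apply (TensorProduct.assoc k R A A).injective
      have el : Algebra.TensorProduct.map ρ (AlgHom.id k A) (ρ r) =
          (HopfRep.Comod.coact (k := k) (A := A)).rTensor A (HopfRep.Comod.coact (k := k) (A := A) r) := by
        show _ = (HopfRep.Comod.coact (k := k) (A := A)).rTensor A (ρ r)
        generalize ρ r = z
        induction z with
        | zero => simp
        | tmul p q => simp [ρ]
        | add y z hy hz => simp only [map_add, hy, hz]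
      rw [el, hco]
      show _ = TensorProduct.assoc k R A A (Θ (Algebra.TensorProduct.map _ _ (ρ r)))
      rw [show HopfRep.Comod.coact (k := k) (A := A) r = ρ r from rfl]
      generalize ρ r = z
      induction z with
      | zero => simp
      | tmul p q => simp [hΘ]
      | add y z hy hz => simp only [map_add, hy, hz]
    rw [hx]
    simp only [mat, Algebra.leftMulMatrix_apply, LinearMap.charpoly_toMatrix]
    refine Eq.trans ?_ (LinearEquiv.charpoly_conj Θ.toLinearEquiv _)
    congr 1
    ext y
    simp [LinearEquiv.conj_apply, Algebra.coe_lmul_eq_mul]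
  have hcoeff : ∀ i, P.coeff i ∈ GLin.invariants k A R := by
    intro i
    have h := congrArg (fun p => p.coeff i) hmap
    simp only [Polynomial.coeff_map] at h
    exact h
  have hroot : P.eval r = 0 := by
    let e : R ⊗[k] A →ₐ[R] R :=
      Algebra.TensorProduct.lift (AlgHom.id R R) ((Algebra.ofId k R).comp (Bialgebra.counitAlgHom k A))
        fun _ _ => Commute.all _ _
    have h0 : aeval (ρ r) P = 0 := by
      have h := Matrix.aeval_self_charpoly (mat b (ρ r))
      rw [mat, Polynomial.aeval_algHom_apply] at h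
      exact Algebra.leftMulMatrix_injective _ (h.trans (map_zero _).symm)
    have h1 := congrArg e h0
    rw [← Polynomial.aeval_algHom_apply, map_zero] at h1
    have he : e (ρ r) = r := by
      have h2 : ∀ z : R ⊗[k] A, e z =
          TensorProduct.rid k R ((Coalgebra.counit (R := k) (A := A)).lTensor R z) := by
        intro z
        induction z with
        | zero => simp
        | tmul p q => simp [e, Algebra.smul_def, mul_comm]
        | add y z hy hz => simp only [map_add, hy, hz]
      rw [h2]
      have h3 := LinearMap.congr_fun (HopfRep.Comod.counit_comp (k := k) (A := A) (V := R)) r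
      simp only [LinearMap.comp_apply, LinearMap.flip_apply, TensorProduct.mk_apply] at h3
      show TensorProduct.rid k R ((Coalgebra.counit (R := k) (A := A)).lTensor R (HopfRep.Comod.coact r)) = r
      rw [h3]; simp
    rw [he, Polynomial.coe_aeval_eq_eval] at h1
    exact h1
  obtain ⟨q, hq, -, hm⟩ := Polynomial.lifts_and_natDegree_eq_and_monic
    (f := (GLin.invariants k A R).val.toRingHom) (p := P)
    ((Polynomial.lifts_iff_coeff_lifts _).2 fun i => ⟨⟨_, hcoeff i⟩, rfl⟩) (Matrix.charpoly_monic _)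
  refine ⟨q, hm, ?_⟩
  rw [← eval_map]
  exact hq ▸ hroot

theorem finiteType_and_finite [Module.Finite k A] (R : Type w) [CommRing R] [Algebra k R] [Algebra.FiniteType k R]
    [HopfRep.Comod k A R] [GLin.IsCoactAlg k A R] :
    Algebra.FiniteType k ↥(GLin.invariants k A R) ∧ Module.Finite ↥(GLin.invariants k A R) R := by
  haveI := isIntegral_invariants (k := k) (A := A) R
  haveI : Algebra.FiniteType ↥(GLin.invariants k A R) R :=
    Algebra.FiniteType.of_restrictScalars_finiteType k _ R
  haveI : Module.Finite ↥(GLin.invariants k A R) R := Algebra.IsIntegral.finite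
  exact ⟨⟨fg_of_fg_of_fg k ↥(GLin.invariants k A R) R Algebra.FiniteType.out Module.Finite.fg_top
    Subtype.val_injective⟩, inferInstance⟩

end Groth.Agent.FinInv
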